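import Mathlib

/-!
Groups of matrices generated by polynomial one-parameter families over an algebraically closed
field: a single word whose image is dense, and whose image contains a basic open piece of it.
-/

set_option autoImplicit false

namespace CfsgLib.AlgLang

open Matrix

variable {K : Type*} [Field K] {n : Type*} [Fintype n] [DecidableEq n] {ι : Type*}

/-- Evaluation of a one-parameter family. -/
noncomputable def pt (P : ι → Matrix n n (Polynomial K)) (i : ι) (t : K) : Matrix n n K :=
  (P i).map (Polynomial.eval t)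

/-- The product of a word of families with its own parameters. -/
noncomputable def wordPoly (P : ι → Matrix n n (Polynomial K)) :
    (w : List ι) → Matrix n n (MvPolynomial (Fin w.length) K)
  | [] => 1
  | i :: w => (P i).map (Polynomial.eval₂ MvPolynomial.C (MvPolynomial.X 0)) *
      (wordPoly P w).map (MvPolynomial.rename Fin.succ)

/-- The image of a word. -/
def wordSet (P : ι → Matrix n n (Polynomial K)) : List ι → Set (Matrix n n K)
  | [] => {1}
  | i :: w => {M | ∃ t, ∃ N ∈ wordSet P w, M = pt P i t * N}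

variable (P : ι → Matrix n n (Polynomial K))

/-- The value of a matrix of polynomials at a matrix. -/
noncomputable def pev (M : Matrix n n K) : MvPolynomial (n × n) K →ₐ[K] K :=
  MvPolynomial.aeval fun e => M e.1 e.2

theorem wordPoly_eval : ∀ (w : List ι) (t : Fin w.length → K),
    (wordPoly P w).map (MvPolynomial.eval t) ∈ wordSet P w
  | [], t => by
    show (1 : Matrix n n (MvPolynomial _ K)).map _ = (1 : Matrix n n K)
    exact Matrix.map_one _ (map_zero _) (map_one _)
  | i :: w, t => by
    refine ⟨t 0, _, wordPoly_eval w fun k => t k.succ, ?_⟩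
    rw [wordPoly, Matrix.map_mul, Matrix.map_map, Matrix.map_map]
    congr 1
    · ext a b
      simp only [Matrix.map_apply, Function.comp_apply, pt]
      rw [Polynomial.hom_eval₂]
      simp [Polynomial.eval, RingHom.comp_apply, Polynomial.eval₂_eq_sum]
    · ext a b
      simp [Matrix.map_apply, MvPolynomial.eval_rename, Function.comp_def]

theorem exists_param : ∀ (w : List ι) (M : Matrix n n K), M ∈ wordSet P w →
    ∃ t : Fin w.length → K, (wordPoly P w).map (MvPolynomial.eval t) = M
  | [], M, hM => ⟨fun k => k.elim0, by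
      rw [show M = 1 from hM]
      exact Matrix.map_one _ (map_zero _) (map_one _)⟩
  | i :: w, M, ⟨a, N, hN, e⟩ => by
    obtain ⟨t, rfl⟩ := exists_param w N hN
    refine ⟨Fin.cons a t, ?_⟩
    rw [e, wordPoly, Matrix.map_mul, Matrix.map_map, Matrix.map_map]
    congr 1
    · ext a' b
      simp only [Matrix.map_apply, Function.comp_apply, pt]
      rw [Polynomial.hom_eval₂]
      simp [Polynomial.eval, RingHom.comp_apply, Polynomial.eval₂_eq_sum]
    · ext a' b
      simp [Matrix.map_apply, MvPolynomial.eval_rename, Function.comp_def]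

theorem wordSet_append : ∀ (w w' : List ι) (M N : Matrix n n K), M ∈ wordSet P w →
    N ∈ wordSet P w' → M * N ∈ wordSet P (w ++ w')
  | [], w', M, N, hM, hN => by rw [show M = 1 from hM, one_mul]; exact hN
  | i :: w, w', M, N, ⟨a, M', hM', e⟩, hN =>
    ⟨a, M' * N, wordSet_append w w' M' N hM' hN, by rw [e, mul_assoc]⟩

theorem one_mem_wordSet (h0 : ∀ i, pt P i 0 = 1) : ∀ w : List ι, (1 : Matrix n n K) ∈ wordSet P w
  | [] => rfl
  | i :: w => ⟨0, 1, one_mem_wordSet h0 w, by rw [h0, one_mul]⟩

/-- The comorphism of a word. -/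
noncomputable def wordHom (w : List ι) :
    MvPolynomial (n × n) K →ₐ[K] MvPolynomial (Fin w.length) K :=
  MvPolynomial.aeval fun e => wordPoly P w e.1 e.2

theorem eval_wordHom (w : List ι) (t : Fin w.length → K) (p : MvPolynomial (n × n) K) :
    MvPolynomial.eval t (wordHom P w p) = pev ((wordPoly P w).map (MvPolynomial.eval t)) p := by
  have : (MvPolynomial.aeval t : MvPolynomial (Fin w.length) K →ₐ[K] K).comp (wordHom P w) =
      pev ((wordPoly P w).map (MvPolynomial.eval t)) := by
    refine MvPolynomial.algHom_ext fun e => ?_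
    simp [wordHom, pev, MvPolynomial.aeval_eq_eval]
  rw [← this]
  simp [MvPolynomial.aeval_eq_eval]

/-- The vanishing ideal of the image of a word. -/
noncomputable def wordIdeal (w : List ι) : Ideal (MvPolynomial (n × n) K) :=
  RingHom.ker (wordHom P w)

instance wordIdeal_isPrime (w : List ι) : (wordIdeal P w).IsPrime := RingHom.ker_isPrime _

theorem pev_eq_zero {w : List ι} {p : MvPolynomial (n × n) K} (hp : p ∈ wordIdeal P w)
    {M : Matrix n n K} (hM : M ∈ wordSet P w) : pev M p = 0 := by
  obtain ⟨t, rfl⟩ := exists_param P w M hM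
  rw [← eval_wordHom, show wordHom P w p = 0 from hp, map_zero]

theorem mem_wordIdeal [Infinite K] {w : List ι} {p : MvPolynomial (n × n) K}
    (h : ∀ M ∈ wordSet P w, pev M p = 0) : p ∈ wordIdeal P w := by
  show wordHom P w p = 0
  refine MvPolynomial.funext fun t => ?_
  rw [eval_wordHom, h _ (wordPoly_eval P w t), map_zero]

/-- A word whose vanishing ideal is contained in all the others. -/
theorem exists_dense [Infinite K] (h0 : ∀ i, pt P i 0 = 1) :
    ∃ w0 : List ι, ∀ w, ∀ M ∈ wordSet P w, ∀ p ∈ wordIdeal P w0, pev M p = 0 := by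
  obtain ⟨w0, hmin⟩ : ∃ w0, ∀ w, (wordIdeal P w0).height ≤ (wordIdeal P w).height := by
    obtain ⟨m, ⟨w0, rfl⟩, hm⟩ := (wellFounded_lt (α := ℕ∞)).has_min
      (Set.range fun w => (wordIdeal P w).height) ⟨_, [], rfl⟩
    exact ⟨w0, fun w => not_lt.1 (hm _ ⟨w, rfl⟩)⟩
  refine ⟨w0, fun w M hM p hp => ?_⟩
  have hle : wordIdeal P (w0 ++ w) ≤ wordIdeal P w0 := fun a ha => mem_wordIdeal P fun N hN =>
    pev_eq_zero P ha (by simpa using wordSet_append P w0 w N 1 hN (one_mem_wordSet P h0 w))
  have he : wordIdeal P (w0 ++ w) = wordIdeal P w0 := by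
    rcases eq_or_lt_of_le hle with h | h
    · exact h
    · exact absurd (Ideal.height_strict_mono_of_isPrime h) (not_lt.2 (hmin _))
  exact pev_eq_zero P (he.symm ▸ hp)
    (by simpa using wordSet_append P w0 w 1 M (one_mem_wordSet P h0 w0) hM)

/-- The image of a word contains the points of its closure where some polynomial is nonzero. -/
theorem exists_open_piece [IsAlgClosed K] (w : List ι) :
    ∃ h : MvPolynomial (n × n) K, h ∉ wordIdeal P w ∧ ∀ M : Matrix n n K,
      (∀ p ∈ wordIdeal P w, pev M p = 0) → pev M h ≠ 0 → M ∈ wordSet P w := by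
  have hft : (wordHom P w).toRingHom.FiniteType := by
    refine RingHom.FiniteType.of_comp_finiteType (f := (MvPolynomial.C : K →+* MvPolynomial (n × n) K)) ?_
    rw [show (wordHom P w).toRingHom.comp MvPolynomial.C =
      algebraMap K (MvPolynomial (Fin w.length) K) from RingHom.ext fun x => (wordHom P w).commutes x]
    exact RingHom.finiteType_algebraMap.2 inferInstance
  have hc := PrimeSpectrum.isConstructible_range_comap
    (RingHom.FinitePresentation.of_finiteType.1 hft)
  obtain ⟨S, hS⟩ := PrimeSpectrum.exists_constructibleSetData_iff.2 hc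
  have h0 : (⟨wordIdeal P w, inferInstance⟩ : PrimeSpectrum (MvPolynomial (n × n) K)) ∈ S.toSet := by
    rw [hS]
    exact ⟨⟨⊥, Ideal.isPrime_bot⟩, PrimeSpectrum.ext (RingHom.ker_eq_comap_bot _).symm⟩
  simp only [PrimeSpectrum.ConstructibleSetData.toSet, Set.mem_iUnion,
    PrimeSpectrum.BasicConstructibleSetData.toSet, Set.mem_sdiff, PrimeSpectrum.mem_zeroLocus,
    Set.singleton_subset_iff, SetLike.mem_coe] at h0
  obtain ⟨C, hC, hg, hf⟩ := h0
  refine ⟨C.f, hf, fun M hM hMf => ?_⟩
  have hm : (RingHom.ker (pev M)).IsMaximal :=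
    RingHom.ker_isMaximal_of_surjective _ fun a => ⟨MvPolynomial.C a, by simp [pev]⟩
  have h1 : (⟨_, hm.isPrime⟩ : PrimeSpectrum (MvPolynomial (n × n) K)) ∈ S.toSet := by
    simp only [PrimeSpectrum.ConstructibleSetData.toSet, Set.mem_iUnion,
      PrimeSpectrum.BasicConstructibleSetData.toSet, Set.mem_sdiff, PrimeSpectrum.mem_zeroLocus,
      Set.singleton_subset_iff, SetLike.mem_coe]
    exact ⟨C, hC, fun g hg' => hM g (hg hg'), hMf⟩
  rw [hS] at h1
  obtain ⟨Q, hQ⟩ := h1
  have hQ' : Q.asIdeal.comap (wordHom P w).toRingHom = RingHom.ker (pev M) :=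
    congrArg PrimeSpectrum.asIdeal hQ
  obtain ⟨N, hN, hQN⟩ := Ideal.exists_le_maximal _ Q.2.ne_top
  obtain ⟨t, rfl⟩ := MvPolynomial.isMaximal_iff_eq_vanishingIdeal_singleton.1 hN
  have key : ∀ p, pev M p = 0 → pev ((wordPoly P w).map (MvPolynomial.eval t)) p = 0 := by
    intro p hp
    have h2 : p ∈ Q.asIdeal.comap (wordHom P w).toRingHom := by
      rw [hQ']; exact hp
    have := hQN h2
    rw [MvPolynomial.mem_vanishingIdeal_singleton_iff, MvPolynomial.aeval_eq_eval] at this
    rw [← eval_wordHom]
    exact this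
  convert wordPoly_eval P w t
  ext a b
  have := key (MvPolynomial.X (a, b) - MvPolynomial.C (M a b)) (by simp [pev])
  simp [pev, sub_eq_zero] at this
  simpa using this.symm

end CfsgLib.AlgLang
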