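import Mathlib
import Cfsg.Agent.AlgLang.Basic

/-!
Lang's theorem for groups of matrices generated by polynomial one-parameter families defined over
the field with `q` elements.
-/

set_option autoImplicit false

namespace CfsgLib.AlgLang

open Matrix

/-- An integral injective map of rings: maximal ideals lift. -/
theorem exists_maximal_over {A B : Type*} [CommRing A] [CommRing B] {f : A →+* B}
    (hf : f.IsIntegral) {m : Ideal A} [m.IsMaximal] (hk : RingHom.ker f ≤ m) :
    ∃ Q : Ideal B, Q.IsMaximal ∧ Q.comap f = m := by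
  let := f.toAlgebra
  have : Algebra.IsIntegral A B := ⟨hf⟩
  exact Ideal.exists_ideal_over_maximal_of_isIntegral m hk

/-- An integral endomorphism of a Noetherian domain is injective. -/
theorem injective_of_isIntegral {A : Type*} [CommRing A] [IsDomain A] [IsNoetherianRing A]
    {f : A →+* A} (hf : f.IsIntegral) : Function.Injective f := by
  let g : ℕ → A →+* A := fun k => Nat.rec (RingHom.id A) (fun _ h => f.comp h) k
  have hgi : ∀ k, (g k).IsIntegral := by
    intro k
    induction k with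
    | zero => exact RingHom.isIntegral_of_surjective _ fun a => ⟨a, rfl⟩
    | succ k ih => exact RingHom.IsIntegral.trans (g k) f ih hf
  have hmono : Monotone fun k => RingHom.ker (g k) := monotone_nat_of_le_succ fun k a ha => by
    show f (g k a) = 0
    rw [show g k a = 0 from ha, map_zero]
  obtain ⟨k, hk⟩ := monotone_stabilizes_iff_noetherian.2
    (inferInstance : IsNoetherian A A) ⟨fun k => RingHom.ker (g k), hmono⟩
  rw [injective_iff_map_eq_zero]
  by_contra hne
  push Not at hne
  obtain ⟨x, hx, hx0⟩ := hne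
  obtain ⟨p, hp, he⟩ := hgi k x
  have hp0 : p.map (g k) ≠ 0 := (hp.map (g k)).ne_zero
  obtain ⟨i, hi, hmem⟩ := Ideal.exists_coeff_ne_zero_mem_comap_of_root_mem (f := RingHom.id A)
    (I := RingHom.ker f) hx0 hx hp0 (by rwa [Polynomial.eval₂_map, RingHom.id_comp])
  rw [Polynomial.coeff_map] at hi hmem
  have h1 : p.coeff i ∈ RingHom.ker (g (k + 1)) := hmem
  exact hi ((hk (k + 1) k.le_succ).ge h1)

/-- Reduction of exponents: if every `x_a ^ q` is a combination of the `x_b` over a subring, the
monomials with exponents below `q` span. -/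
theorem span_box {R : Type*} [CommRing R] (S : Subring R) {σ : Type*} [Fintype σ] [DecidableEq σ]
    (x : σ → R) {q : ℕ} (hq : 2 ≤ q) (c : σ → σ → S)
    (hrel : ∀ a, x a ^ q = ∑ b, (c a b : R) * x b) :
    ∀ (N : ℕ) (e : σ → ℕ), ∑ a, e a ≤ N → ∏ a, x a ^ e a ∈ Submodule.span S
      (Set.range fun f : σ → Fin q => ∏ a, x a ^ (f a : ℕ)) := by
  intro N
  induction N with
  | zero =>
    intro e he
    have : ∀ a, e a = 0 := fun a => by
      have := Finset.single_le_sum (fun b _ => Nat.zero_le (e b)) (Finset.mem_univ a)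
      omega
    exact Submodule.subset_span ⟨fun a => ⟨0, by omega⟩, by simp [this]⟩
  | succ N ih =>
    intro e he
    by_cases hb : ∀ a, e a < q
    · exact Submodule.subset_span ⟨fun a => ⟨e a, hb a⟩, rfl⟩
    push Not at hb
    obtain ⟨a, ha⟩ := hb
    have key : ∏ d, x d ^ e d =
        ∑ b, c a b • ∏ d, x d ^ ((if d = a then e a - q else e d) + if d = b then 1 else 0) := by
      calc ∏ d, x d ^ e d
          = (∏ d, x d ^ (if d = a then e a - q else e d)) * x a ^ q := by
            rw [show x a ^ q = ∏ d, x d ^ (if d = a then q else 0) by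
              simp [pow_ite, Finset.prod_ite_eq'], ← Finset.prod_mul_distrib]
            refine Finset.prod_congr rfl fun d _ => ?_
            rw [← pow_add]
            congr 1
            split_ifs with h
            · subst h; omega
            · omega
        _ = _ := by
          rw [hrel, Finset.mul_sum]
          refine Finset.sum_congr rfl fun b _ => ?_
          rw [Subring.smul_def, smul_eq_mul,
            show x b = ∏ d, x d ^ (if d = b then 1 else 0) by simp [pow_ite, Finset.prod_ite_eq']]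
          rw [mul_left_comm, ← Finset.prod_mul_distrib]
          simp only [← pow_add]
    rw [key]
    refine Submodule.sum_mem _ fun b _ => Submodule.smul_mem _ _ (ih _ ?_)
    rw [Finset.sum_add_distrib, Finset.sum_ite_eq' Finset.univ b, if_pos (Finset.mem_univ _)]
    have h1 : ∑ d, (if d = a then e a - q else e d) + q = ∑ d, e d := by
      rw [← Finset.add_sum_erase _ _ (Finset.mem_univ a),
        ← Finset.add_sum_erase _ e (Finset.mem_univ a), if_pos rfl,
        Finset.sum_congr rfl fun d hd => if_neg (Finset.ne_of_mem_erase hd)]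
      have he' : (Finset.univ.erase a).sum e = ∑ d ∈ Finset.univ.erase a, e d := rfl
      omega
    have h2 : N + 1 + 1 ≤ N + q := by omega
    have h3 : ∑ d, (if d = a then e a - q else e d) + q ≤ N + 1 := h1 ▸ he
    omega

variable {K : Type*} [Field K] {n : Type*} [Fintype n] [DecidableEq n] {ι : Type*}
  (P : ι → Matrix n n (Polynomial K))

/-- The generic matrix. -/
noncomputable def genX : Matrix n n (MvPolynomial (n × n) K) :=
  Matrix.of fun a b => MvPolynomial.X (a, b)

omit [Fintype n] [DecidableEq n] in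
theorem pev_genX (M : Matrix n n K) : genX.map (pev M) = M := by
  ext a b; simp [genX, pev]

/-- The matrix of polynomials `adj(X) y X^{(q)}`. -/
noncomputable def twistMat (y : Matrix n n K) (q : ℕ) : Matrix n n (MvPolynomial (n × n) K) :=
  adjugate genX * y.map MvPolynomial.C * genX.map (fun f => f ^ q)

/-- The comorphism of `g ↦ g⁻¹ y g^{(q)}` on matrices of determinant one. -/
noncomputable def twistHom (y : Matrix n n K) (q : ℕ) :
    MvPolynomial (n × n) K →ₐ[K] MvPolynomial (n × n) K :=
  MvPolynomial.aeval fun e => twistMat y q e.1 e.2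

theorem twistMat_map {A : Type*} [CommRing A] (f : MvPolynomial (n × n) K →+* A)
    (y : Matrix n n K) (q : ℕ) :
    (twistMat y q).map f =
      adjugate (genX.map f) * y.map (f.comp MvPolynomial.C) * (genX.map f).map (fun a => a ^ q) := by
  have h1 : (adjugate (genX (K := K) (n := n))).map f = adjugate (genX.map f) :=
    RingHom.map_adjugate f genX
  have h2 : ((genX (K := K) (n := n)).map fun a => a ^ q).map f =
      (genX.map f).map fun a => a ^ q := by
    ext a b; simp [Matrix.map_apply]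
  rw [twistMat, Matrix.map_mul, Matrix.map_mul, h1, h2, Matrix.map_map]
  rfl

theorem pev_twistHom (y M : Matrix n n K) (q : ℕ) (p : MvPolynomial (n × n) K) :
    pev M (twistHom y q p) = pev (adjugate M * y * M.map (fun a => a ^ q)) p := by
  have : (pev M).comp (twistHom y q) = pev (adjugate M * y * M.map (fun a => a ^ q)) := by
    refine MvPolynomial.algHom_ext fun e => ?_
    rw [AlgHom.comp_apply, twistHom, MvPolynomial.aeval_X]
    have h := twistMat_map (pev M).toRingHom y q
    have e1 : genX.map (pev M).toRingHom = M := pev_genX M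
    have e2 : y.map ((pev M).toRingHom.comp MvPolynomial.C) = y := by
      ext a b; simp [pev]
    rw [e1, e2] at h
    rw [show pev M (twistMat y q e.1 e.2) = (adjugate M * y * M.map (fun a => a ^ q)) e.1 e.2 from
      congrFun (congrFun h e.1) e.2]
    simp [pev]
  exact DFunLike.congr_fun this p

/-- Where the determinant is one, the twisted map is finite. -/
theorem twist_isIntegral {q : ℕ} (hq : 2 ≤ q) (y : Matrix n n K) (hy : IsUnit y.det)
    {R : Type*} [CommRing R] (π : MvPolynomial (n × n) K →+* R) (hπ : Function.Surjective π)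
    (hX : (genX.map π).det = 1) (ψ : R →+* R) (hψ : ∀ p, ψ (π p) = π (twistHom y q p)) :
    ψ.IsIntegral := by
  classical
  have hψC : ∀ a, ψ (π (MvPolynomial.C a)) = π (MvPolynomial.C a) := fun a => by
    rw [hψ]; simp [twistHom]
  have e1 : (genX.map π).map ψ = (twistMat y q).map π := by
    ext a b
    simp only [Matrix.map_apply, genX, Matrix.of_apply, hψ, twistHom, MvPolynomial.aeval_X]
  rw [twistMat_map] at e1
  have hyinv : (y⁻¹).map (π.comp MvPolynomial.C) * y.map (π.comp MvPolynomial.C) = 1 := by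
    rw [← Matrix.map_mul, Matrix.nonsing_inv_mul _ hy]
    exact Matrix.map_one _ (map_zero _) (map_one _)
  have hrel0 : (y⁻¹).map (π.comp MvPolynomial.C) * genX.map π * (genX.map π).map ψ =
      (genX.map π).map fun a => a ^ q := by
    rw [e1]
    calc (y⁻¹).map (π.comp MvPolynomial.C) * genX.map π *
          (adjugate (genX.map π) * y.map (π.comp MvPolynomial.C) *
            (genX.map π).map fun a => a ^ q)
        = (y⁻¹).map (π.comp MvPolynomial.C) * (genX.map π * adjugate (genX.map π)) *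
            y.map (π.comp MvPolynomial.C) * (genX.map π).map (fun a => a ^ q) := by
          simp only [mul_assoc]
      _ = _ := by rw [mul_adjugate, hX, one_smul, mul_one, hyinv, one_mul]
  have hrel : ∀ a : n × n, π (MvPolynomial.X a) ^ q = ∑ b : n × n,
      ((ψ.rangeRestrict (π (MvPolynomial.C (y⁻¹ a.1 b.1) * MvPolynomial.X (b.2, a.2))) : ψ.range) :
        R) * π (MvPolynomial.X b) := by
    intro a
    have := congrFun (congrFun hrel0 a.1) a.2
    simp only [Matrix.mul_apply, Matrix.map_apply, genX, Matrix.of_apply, RingHom.comp_apply,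
      Prod.mk.eta] at this
    rw [← this, Fintype.sum_prod_type, Finset.sum_comm]
    refine Finset.sum_congr rfl fun l _ => ?_
    rw [Finset.sum_mul]
    refine Finset.sum_congr rfl fun k _ => ?_
    rw [RingHom.coe_rangeRestrict, map_mul π, map_mul ψ, hψC]
    ring
  have hfin : Module.Finite ψ.range R := by
    refine ⟨⟨(Set.finite_range fun f : n × n → Fin q =>
      ∏ a, π (MvPolynomial.X a) ^ (f a : ℕ)).toFinset, ?_⟩⟩
    rw [Set.Finite.coe_toFinset, eq_top_iff]
    rintro r -
    obtain ⟨p, rfl⟩ := hπ r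
    induction p using MvPolynomial.induction_on' with
    | add p p' hp hp' => rw [map_add]; exact Submodule.add_mem _ hp hp'
    | monomial e a =>
      have hmon : π (MvPolynomial.monomial e a) =
          (⟨π (MvPolynomial.C a), π (MvPolynomial.C a), hψC a⟩ : ψ.range) •
            ∏ d, π (MvPolynomial.X d) ^ e d := by
        rw [Subring.smul_def, smul_eq_mul, MvPolynomial.monomial_eq, map_mul,
          Finsupp.prod_fintype _ _ fun _ => pow_zero _, map_prod]
        simp
      rw [hmon]
      exact Submodule.smul_mem _ _ (span_box ψ.range _ hq _ hrel _ _ le_rfl)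
  have h1 : (algebraMap ψ.range R).IsIntegral := Algebra.IsIntegral.isIntegral
  exact RingHom.IsIntegral.trans ψ.rangeRestrict (algebraMap ψ.range R)
    (RingHom.isIntegral_of_surjective _ ψ.rangeRestrict_surjective) h1

/-- On the closure of a dense word the twisted map covers a basic open piece, from any basic open
piece. -/
theorem exists_dominant' [IsAlgClosed K] {R : Type*} [CommRing R] [IsDomain R]
    [IsNoetherianRing R] (π : MvPolynomial (n × n) K →+* R) (hπsurj : Function.Surjective π) {q : ℕ} (hq : 2 ≤ q) (w0 : List ι)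
    (y : Matrix n n K) (hy : IsUnit y.det) (hdet : ∀ M ∈ wordSet P w0, M.det = 1)
    (hclosed : ∀ M ∈ wordSet P w0, ∀ p ∈ wordIdeal P w0,
      pev (adjugate M * y * M.map (fun a => a ^ q)) p = 0)
    (hπ : ∀ p, π p = 0 ↔ p ∈ wordIdeal P w0)
    {h : MvPolynomial (n × n) K} (hh : h ∉ wordIdeal P w0) :
    ∃ b, b ∉ wordIdeal P w0 ∧ ∀ M ∈ wordSet P w0, pev M b ≠ 0 → ∃ v : Matrix n n K,
      (∀ p ∈ wordIdeal P w0, pev v p = 0) ∧ pev v h ≠ 0 ∧
        adjugate v * y * v.map (fun a => a ^ q) = M := by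
  classical
  have hmaps : wordIdeal P w0 ≤ (wordIdeal P w0).comap (twistHom y q).toRingHom := fun p hp =>
    Ideal.mem_comap.2 (mem_wordIdeal P (w := w0) (p := twistHom y q p) fun M hM => by
      rw [pev_twistHom]
      exact hclosed M hM p hp)
  have hker : RingHom.ker π = wordIdeal P w0 := Ideal.ext fun p => hπ p
  obtain ⟨ψ, hψ⟩ : ∃ ψ : R →+* R, ∀ p, ψ (π p) = π (twistHom y q p) := by
    refine ⟨RingHom.liftOfSurjective π hπsurj ⟨π.comp (twistHom y q).toRingHom, fun p hp => ?_⟩,
      fun p => RingHom.liftOfRightInverse_comp_apply _ _ _ _ p⟩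
    rw [RingHom.mem_ker, RingHom.comp_apply, hπ]
    rw [hker] at hp
    exact hmaps hp
  have hX : (genX.map π).det = 1 := by
    rw [show genX.map π = π.mapMatrix genX from rfl, ← RingHom.map_det, ← sub_eq_zero,
      ← map_one π, ← map_sub, hπ]
    refine mem_wordIdeal P fun M hM => ?_
    rw [map_sub, map_one, AlgHom.map_det, AlgHom.mapMatrix_apply, pev_genX, hdet M hM, sub_self]
  have hint : ψ.IsIntegral := twist_isIntegral hq y hy π hπsurj hX ψ hψ
  have hinj : Function.Injective ψ := injective_of_isIntegral hint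
  have hπh : π h ≠ 0 := fun e => hh ((hπ h).1 e)
  obtain ⟨p, hp, he⟩ := hint (π h)
  obtain ⟨i, hi, hmem⟩ := Ideal.exists_coeff_ne_zero_mem_comap_of_root_mem (f := ψ)
    (I := Ideal.span {π h}) hπh (Ideal.mem_span_singleton_self _) hp.ne_zero he
  obtain ⟨b, hb⟩ := hπsurj (p.coeff i)
  refine ⟨b, fun hb' => hi ?_, fun M hM hMb => ?_⟩
  · rw [← hb, hπ]; exact hb'
  obtain ⟨χ, hχ⟩ : ∃ χ : R →+* K,
      ∀ p, χ (π p) = pev M p := by
    refine ⟨RingHom.liftOfSurjective π hπsurj ⟨(pev M).toRingHom, fun p hp => ?_⟩,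
      fun p => RingHom.liftOfRightInverse_comp_apply _ _ _ _ p⟩
    rw [hker] at hp
    exact pev_eq_zero P hp hM
  have : (RingHom.ker χ).IsMaximal := RingHom.ker_isMaximal_of_surjective _ fun a =>
    ⟨π (MvPolynomial.C a), by rw [hχ]; simp [pev]⟩
  obtain ⟨Q, hQ, hQc⟩ := exists_maximal_over hint (m := RingHom.ker χ)
    (by rw [(RingHom.injective_iff_ker_eq_bot ψ).1 hinj]; exact bot_le)
  obtain ⟨v, hv⟩ := MvPolynomial.isMaximal_iff_eq_vanishingIdeal_singleton.1
    (Ideal.comap_isMaximal_of_surjective π hπsurj (K := Q))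
  have hvQ : ∀ p, π p ∈ Q ↔ pev (Matrix.of fun a b => v (a, b)) p = 0 := fun p => by
    rw [← Ideal.mem_comap, hv, MvPolynomial.mem_vanishingIdeal_singleton_iff]
    simp [pev]
  refine ⟨Matrix.of fun a b => v (a, b), fun p hp => (hvQ p).1 ?_, fun h0 => hMb ?_, ?_⟩
  · rw [(hπ p).2 hp]; exact Q.zero_mem
  · obtain ⟨c, hc⟩ := Ideal.mem_span_singleton'.1 (Ideal.mem_comap.1 hmem)
    have h1 : ψ (p.coeff i) ∈ Q := hc ▸ Q.mul_mem_left _ ((hvQ h).2 h0)
    have h2 : π b ∈ RingHom.ker χ := by
      rw [← hQc, Ideal.mem_comap, hb]; exact h1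
    rw [RingHom.mem_ker, hχ] at h2
    exact h2
  · ext a b
    have h1 : π (MvPolynomial.X (a, b) - MvPolynomial.C (M a b)) ∈ RingHom.ker χ := by
      rw [RingHom.mem_ker, hχ]; simp [pev]
    rw [← hQc, Ideal.mem_comap, hψ, hvQ, pev_twistHom] at h1
    simp [pev, sub_eq_zero] at h1
    exact h1

/-- On the closure of a dense word the twisted map covers a basic open piece, from any basic open
piece. -/
theorem exists_dominant [IsAlgClosed K] {q : ℕ} (hq : 2 ≤ q) (w0 : List ι)
    (y : Matrix n n K) (hy : IsUnit y.det) (hdet : ∀ M ∈ wordSet P w0, M.det = 1)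
    (hclosed : ∀ M ∈ wordSet P w0, ∀ p ∈ wordIdeal P w0,
      pev (adjugate M * y * M.map (fun a => a ^ q)) p = 0)
    {h : MvPolynomial (n × n) K} (hh : h ∉ wordIdeal P w0) :
    ∃ b, b ∉ wordIdeal P w0 ∧ ∀ M ∈ wordSet P w0, pev M b ≠ 0 → ∃ v : Matrix n n K,
      (∀ p ∈ wordIdeal P w0, pev v p = 0) ∧ pev v h ≠ 0 ∧
        adjugate v * y * v.map (fun a => a ^ q) = M :=
  exists_dominant' P (Ideal.Quotient.mk (wordIdeal P w0)) Ideal.Quotient.mk_surjective hq w0 y hy
    hdet hclosed (fun _ => Ideal.Quotient.eq_zero_iff_mem) hh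

/-- Lang's theorem. -/
theorem exists_lang [IsAlgClosed K] {q : ℕ} (hq : 2 ≤ q) (φ : K →+* K) (hφ : ∀ x, φ x = x ^ q)
    (hfix : ∀ i a b, (P i a b).map φ = P i a b) (h0 : ∀ i, pt P i 0 = 1)
    (hinv : ∀ i t, pt P i t * pt P i (-t) = 1) {G : Subgroup (GL n K)}
    (hG : G = Subgroup.closure {g : GL n K | ∃ i t, (g : Matrix n n K) = pt P i t})
    {y : GL n K} (hy : y ∈ G) :
    ∃ g ∈ G, g⁻¹ * Matrix.GeneralLinearGroup.map φ g = y := by
  classical
  have hunit : ∀ i t, ∃ g : GL n K, g ∈ G ∧ (g : Matrix n n K) = pt P i t := fun i t => by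
    have h2 : pt P i (-t) * pt P i t = 1 := by simpa using hinv i (-t)
    refine ⟨(⟨pt P i t, pt P i (-t), hinv i t, h2⟩ : (Matrix n n K)ˣ), ?_, rfl⟩
    rw [hG]; exact Subgroup.subset_closure ⟨i, t, rfl⟩
  have hdet1 : ∀ i t, (pt P i t).det = 1 := by
    intro i
    have hev : ∀ t, (pt P i t).det = (P i).det.eval t := fun t => by
      rw [← Polynomial.coe_evalRingHom, RingHom.map_det]; rfl
    have hdeg : (P i).det.natDegree = 0 := by
      by_contra hne
      obtain ⟨r, hr⟩ := IsAlgClosed.exists_root (P i).det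
        (fun e => hne (Polynomial.natDegree_eq_of_degree_eq_some e))
      have := congrArg Matrix.det (hinv i r)
      rw [Matrix.det_mul, Matrix.det_one, hev, hr, zero_mul] at this
      exact zero_ne_one this
    intro t
    have h1 : (P i).det = Polynomial.C ((P i).det.coeff 0) :=
      Polynomial.eq_C_of_natDegree_eq_zero hdeg
    have h2 := hev 0
    rw [h0, Matrix.det_one, h1, Polynomial.eval_C] at h2
    rw [hev, h1, Polynomial.eval_C, ← h2]
  have hwdet : ∀ w, ∀ M ∈ wordSet P w, M.det = 1 := by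
    intro w
    induction w with
    | nil => rintro M rfl; exact Matrix.det_one
    | cons i w ih =>
      rintro M ⟨t, N, hN, rfl⟩
      rw [Matrix.det_mul, hdet1, ih N hN, one_mul]
  have hmem : ∀ w, ∀ M ∈ wordSet P w, ∃ g : GL n K, g ∈ G ∧ (g : Matrix n n K) = M := by
    intro w
    induction w with
    | nil => rintro M rfl; exact ⟨1, G.one_mem, rfl⟩
    | cons i w ih =>
      rintro M ⟨t, N, hN, rfl⟩
      obtain ⟨g, hg, e⟩ := hunit i t
      obtain ⟨g', hg', e'⟩ := ih N hN
      exact ⟨g * g', G.mul_mem hg hg', by rw [Units.val_mul, e, e']⟩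
  have hword : ∀ g ∈ G, ∃ w, (g : Matrix n n K) ∈ wordSet P w := by
    intro g hg
    rw [hG] at hg
    induction hg using Subgroup.closure_induction_left with
    | one => exact ⟨[], rfl⟩
    | mul_left x hx g _ ih =>
      obtain ⟨i, t, e⟩ := hx
      obtain ⟨w, hw⟩ := ih
      exact ⟨i :: w, t, _, hw, by rw [Units.val_mul, e]⟩
    | inv_mul_cancel x hx g _ ih =>
      obtain ⟨i, t, e⟩ := hx
      obtain ⟨w, hw⟩ := ih
      refine ⟨i :: w, -t, _, hw, ?_⟩
      rw [Units.val_mul]
      congr 1
      exact Units.inv_eq_of_mul_eq_one_right (by rw [e, hinv])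
  have hF : ∀ g ∈ G, Matrix.GeneralLinearGroup.map φ g ∈ G := by
    intro g hg
    suffices G ≤ G.comap (Matrix.GeneralLinearGroup.map φ) from this hg
    conv_lhs => rw [hG]
    refine (Subgroup.closure_le _).2 ?_
    rintro x ⟨i, t, e⟩
    show Matrix.GeneralLinearGroup.map φ x ∈ G
    rw [hG]
    refine Subgroup.subset_closure ⟨i, φ t, ?_⟩
    ext a b
    show φ ((x : Matrix n n K) a b) = _
    rw [e]
    simp only [pt, Matrix.map_apply]
    conv_rhs => rw [← hfix i a b]
    rw [Polynomial.eval_map, Polynomial.eval₂_at_apply]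
  have hpow : ∀ g : GL n K, ((g : Matrix n n K).map fun a => a ^ q) =
      (Matrix.GeneralLinearGroup.map φ g : Matrix n n K) := fun g => by
    ext a b; exact (hφ _).symm
  have hadj : ∀ g ∈ G, adjugate (g : Matrix n n K) = ((g⁻¹ : GL n K) : Matrix n n K) := by
    intro g hg
    obtain ⟨w, hw⟩ := hword g hg
    rw [Matrix.coe_units_inv, Matrix.inv_def, hwdet w _ hw, Ring.inverse_one, one_smul]
  obtain ⟨w0, hw0⟩ := exists_dense P h0
  obtain ⟨h, hh, hopen⟩ := exists_open_piece P w0
  have dom : ∀ z ∈ G, ∃ b, b ∉ wordIdeal P w0 ∧ ∀ M ∈ wordSet P w0, pev M b ≠ 0 →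
      ∃ v ∈ G, ((v⁻¹ * z * Matrix.GeneralLinearGroup.map φ v : GL n K) : Matrix n n K) = M := by
    intro z hz
    have hclosed : ∀ M ∈ wordSet P w0, ∀ p ∈ wordIdeal P w0,
        pev (adjugate M * (z : Matrix n n K) * M.map (fun a => a ^ q)) p = 0 := by
      intro M hM p hp
      obtain ⟨g, hg, rfl⟩ := hmem w0 M hM
      obtain ⟨w, hw⟩ := hword _ (G.mul_mem (G.mul_mem (G.inv_mem hg) hz) (hF g hg))
      refine hw0 w _ ?_ p hp
      rwa [hadj g hg, hpow]
    obtain ⟨b, hb, hb'⟩ := exists_dominant P hq w0 (z : Matrix n n K)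
      ((Matrix.isUnit_iff_isUnit_det _).1 z.isUnit) (hwdet w0) hclosed hh
    refine ⟨b, hb, fun M hM hMb => ?_⟩
    obtain ⟨v, hv1, hv2, hv3⟩ := hb' M hM hMb
    obtain ⟨g, hg, rfl⟩ := hmem w0 v (hopen v hv1 hv2)
    exact ⟨g, hg, by rw [Units.val_mul, Units.val_mul, ← hadj g hg, ← hpow, hv3]⟩
  obtain ⟨b1, hb1, hb1'⟩ := dom 1 G.one_mem
  obtain ⟨b2, hb2, hb2'⟩ := dom y hy
  have hb : b1 * b2 ∉ wordIdeal P w0 := fun e =>
    ((wordIdeal_isPrime P w0).mem_or_mem e).elim hb1 hb2
  obtain ⟨M, hM, hMb⟩ : ∃ M ∈ wordSet P w0, pev M (b1 * b2) ≠ 0 := by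
    by_contra hne
    push Not at hne
    exact hb (mem_wordIdeal P hne)
  rw [map_mul, mul_ne_zero_iff] at hMb
  obtain ⟨v1, hv1, e1⟩ := hb1' M hM hMb.1
  obtain ⟨v2, hv2, e2⟩ := hb2' M hM hMb.2
  refine ⟨v1 * v2⁻¹, G.mul_mem hv1 (G.inv_mem hv2), ?_⟩
  have e : v1⁻¹ * 1 * Matrix.GeneralLinearGroup.map φ v1 =
      v2⁻¹ * y * Matrix.GeneralLinearGroup.map φ v2 := Units.ext (e1.trans e2.symm)
  rw [mul_one] at e
  rw [map_mul, map_inv, _root_.mul_inv_rev, inv_inv]
  calc v2 * v1⁻¹ * (Matrix.GeneralLinearGroup.map φ v1 * (Matrix.GeneralLinearGroup.map φ v2)⁻¹)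
      = v2 * (v1⁻¹ * Matrix.GeneralLinearGroup.map φ v1) *
          (Matrix.GeneralLinearGroup.map φ v2)⁻¹ := by group
    _ = y := by rw [e]; group

end CfsgLib.AlgLang
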